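import Mathlib.RingTheory.Spectrum.Prime.FreeLocus
import Mathlib.RingTheory.LocalRing.ResidueField.Ideal
import Mathlib.RingTheory.Spectrum.Prime.Topology
import Mathlib.RingTheory.Flat.Localization

set_option autoImplicit false

namespace Groth.Agent.Lib.Helper12

open TensorProduct

universe u v w

section

variable {R : Type u} [CommRing R] {M : Type v} {N : Type w} [AddCommGroup M] [Module R M]
  [AddCommGroup N] [Module R N] (d : M →ₗ[R] N)

theorem coker_cond_iff_inj (K : Type*) [CommRing K] [Algebra R K] :
    LinearMap.ker (d.baseChange K) ≤ LinearMap.range ((LinearMap.ker d).subtype.baseChange K) ↔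
      Function.Injective ((LinearMap.range d).subtype.baseChange K) := by
  have hd : d = (LinearMap.range d).subtype ∘ₗ d.rangeRestrict := by
    ext x; rfl
  have hex : Function.Exact (LinearMap.ker d).subtype d.rangeRestrict := by
    rw [LinearMap.exact_iff, LinearMap.ker_rangeRestrict, Submodule.range_subtype]
  have hsurj : Function.Surjective (d.rangeRestrict.baseChange K) :=
    LinearMap.baseChange_surjective _ d.surjective_rangeRestrict
  have hex' : Function.Exact ((LinearMap.ker d).subtype.baseChange K)
      (d.rangeRestrict.baseChange K) := by
    rw [LinearMap.baseChange_eq_ltensor, LinearMap.baseChange_eq_ltensor]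
    exact lTensor_exact K hex d.surjective_rangeRestrict
  have hcomp : d.baseChange K = ((LinearMap.range d).subtype.baseChange K) ∘ₗ
      (d.rangeRestrict.baseChange K) := by
    rw [← LinearMap.baseChange_comp, ← hd]
  constructor
  · intro h
    rw [injective_iff_map_eq_zero]
    intro x hx
    obtain ⟨y, rfl⟩ := hsurj x
    have hy : y ∈ LinearMap.ker (d.baseChange K) := by
      rw [LinearMap.mem_ker, hcomp, LinearMap.comp_apply, hx]
    obtain ⟨z, rfl⟩ := h hy
    exact hex'.apply_apply_eq_zero z
  · intro h y hy
    rw [LinearMap.mem_ker, hcomp, LinearMap.comp_apply] at hy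
    have : (d.rangeRestrict.baseChange K) y = 0 := h (by rw [hy, map_zero])
    exact (hex' y).mp this

theorem coker_inj_iff_mem_freeLocus [Module.Finite R M] [Module.Finite R N]
    [Module.Projective R N] (p : PrimeSpectrum R) :
    Function.Injective ((LinearMap.range d).subtype.baseChange p.asIdeal.ResidueField) ↔
      p ∈ Module.freeLocus R (N ⧸ LinearMap.range d) := by
  rw [Module.mem_freeLocus_iff_tensor p (Localization.AtPrime p.asIdeal)]
  set P := Localization.AtPrime p.asIdeal
  set I := LinearMap.range d
  let f : P ⊗[R] I →ₗ[P] P ⊗[R] N := I.subtype.baseChange P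
  let g : P ⊗[R] N →ₗ[P] P ⊗[R] (N ⧸ I) := I.mkQ.baseChange P
  have hg : Function.Surjective g :=
    LinearMap.baseChange_surjective _ (Submodule.mkQ_surjective _)
  have hfg : Function.Exact f g := by
    simp only [f, g]
    rw [LinearMap.baseChange_eq_ltensor, LinearMap.baseChange_eq_ltensor]
    exact lTensor_exact P (LinearMap.exact_subtype_mkQ I) (Submodule.mkQ_surjective _)
  have hf : Function.Injective f := by
    simp only [f]
    have : Module.Flat R P := IsLocalization.flat P p.asIdeal.primeCompl
    rw [LinearMap.baseChange_eq_ltensor]
    exact Module.Flat.lTensor_preserves_injective_linearMap _ I.injective_subtype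
  have : Module.Finite R I := Module.Finite.range d
  have : Module.Free P (P ⊗[R] N) := Module.free_of_flat_of_isLocalRing
  have key : Function.Injective (f.lTensor (IsLocalRing.ResidueField P)) ↔
      Function.Injective (I.subtype.baseChange p.asIdeal.ResidueField) := by
    have h1 : ⇑(f.lTensor (IsLocalRing.ResidueField P)) =
        ⇑(f.baseChange (IsLocalRing.ResidueField P)) := rfl
    rw [h1]
    simp only [f]
    rw [LinearMap.baseChange_baseChange]
    simp only [LinearMap.coe_comp, LinearEquiv.coe_coe]
    rw [EquivLike.comp_injective, EquivLike.injective_comp]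
  constructor
  · intro h
    exact Module.free_of_lTensor_residueField_injective f g hg hfg (key.mpr h)
  · intro hfree
    apply key.mp
    rw [← IsLocalRing.split_injective_iff_lTensor_residueField_injective]
    obtain ⟨s, hs⟩ := Module.projective_lifting_property g LinearMap.id hg
    have htf := (Function.Exact.split_tfae' hfg).out 0 1
    exact (htf.mp ⟨hf, s, hs⟩).2

end

theorem coker_finitePresentation {R : Type u} [CommRing R] {M : Type v} {N : Type w}
    [AddCommGroup M] [Module R M] [AddCommGroup N] [Module R N] [Module.Finite R M]
    [Module.Finite R N] [Module.Projective R N] (d : M →ₗ[R] N) :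
    Module.FinitePresentation R (N ⧸ LinearMap.range d) := by
  have : Module.FinitePresentation R N := Module.finitePresentation_of_projective R N
  exact Module.finitePresentation_of_surjective (LinearMap.range d).mkQ
    (Submodule.mkQ_surjective _)
    (by rw [Submodule.ker_mkQ, LinearMap.range_eq_map]; exact (Module.Finite.fg_top).map d)

end Groth.Agent.Lib.Helper12
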